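/- Groups with class sizes `1, n, m, n m` for coprime `n, m`: basic facts. -/
import Mathlib
import Cfsg.Agent.ClassCoprime69.Basic
import Cfsg.Agent.TwoSizes69.Lines
import Cfsg.Agent.GroupBasics.Conjugates

set_option autoImplicit false
set_option linter.unusedSectionVars false

namespace CfsgLib.ConjType69

open Subgroup CfsgLib.ClassCoprime69
open CfsgLib.TwoSizes69 (RElem)

variable {G : Type*} [Group G] [Finite G]

/-- The centraliser of an element. -/
abbrev Cx (g : G) : Subgroup G := centralizer ({g} : Set G)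

/-- The order of a Sylow `p`-subgroup of `H`. -/
noncomputable def ord (p : ℕ) (H : Subgroup G) : ℕ := p ^ (Nat.card H).factorization p

variable {p : ℕ} [hp : Fact p.Prime]

theorem exists_pSub (H : Subgroup G) :
    ∃ S : Subgroup G, S ≤ H ∧ IsPGroup p S ∧ Nat.card S = ord p H := by
  obtain ⟨S⟩ := (inferInstance : Nonempty (Sylow p H))
  exact ⟨(S : Subgroup H).map H.subtype, map_subtype_le _, S.isPGroup'.map _, by
    rw [card_map_of_injective H.subtype_injective, S.card_eq_multiplicity]; rfl⟩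

theorem card_le_ord {S H : Subgroup G} (hS : IsPGroup p S) (hSH : S ≤ H) : Nat.card S ≤ ord p H := by
  obtain ⟨k, hk⟩ := IsPGroup.iff_card.mp hS
  rw [hk]
  refine Nat.pow_le_pow_right hp.out.pos ?_
  exact (hp.out.pow_dvd_iff_le_factorization Nat.card_pos.ne').mp (hk ▸ card_dvd_of_le hSH)

theorem exists_pSub_mem {H : Subgroup G} {w : G} (hw : RElem p w) (hwH : w ∈ H) :
    ∃ S : Subgroup G, S ≤ H ∧ IsPGroup p S ∧ Nat.card S = ord p H ∧ w ∈ S := by
  obtain ⟨k, hk⟩ := hw
  have hpg : IsPGroup p (zpowers (⟨w, hwH⟩ : H)) :=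
    TwoSizes69.isPGroup_zpowers ⟨k, Subtype.ext (by simpa using hk)⟩
  obtain ⟨S, hS⟩ := hpg.exists_le_sylow
  exact ⟨(S : Subgroup H).map H.subtype, map_subtype_le _, S.isPGroup'.map _, by
    rw [card_map_of_injective H.subtype_injective, S.card_eq_multiplicity]; rfl,
    ⟨_, hS (mem_zpowers _), rfl⟩⟩

theorem ord_mul (H : Subgroup G) :
    ord p H * p ^ H.index.factorization p = ord p (⊤ : Subgroup G) := by
  rw [ord, ord, card_top, ← pow_add, ← H.card_mul_index,
    Nat.factorization_mul Nat.card_pos.ne' index_ne_zero_of_finite, Finsupp.add_apply]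

theorem ord_eq_of_cs {a b : G} (h : (cs a).factorization p = (cs b).factorization p) :
    ord p (Cx a) = ord p (Cx b) := by
  have h1 := ord_mul (p := p) (Cx a)
  have h2 := ord_mul (p := p) (Cx b)
  change ord p (Cx a) * p ^ (cs a).factorization p = _ at h1
  change ord p (Cx b) * p ^ (cs b).factorization p = _ at h2
  rw [h, ← h2] at h1
  exact Nat.eq_of_mul_eq_mul_right (pow_pos hp.out.pos _) h1

/-- A subgroup of index prime to `p` has full Sylow subgroups. -/
theorem ord_eq_top {H : Subgroup G} (h : ¬ p ∣ H.index) : ord p H = ord p (⊤ : Subgroup G) := by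
  rw [← ord_mul H, Nat.factorization_eq_zero_of_not_dvd h, pow_zero, mul_one]

/-- A normal `p`-subgroup lies in every subgroup of order `ord p H` of `H`. -/
theorem normal_le_pSub {H S U : Subgroup G} [U.Normal] (hU : IsPGroup p U) (hUH : U ≤ H)
    (hS : IsPGroup p S) (hSH : S ≤ H) (hc : Nat.card S = ord p H) : U ≤ S := by
  have h1 : IsPGroup p ↥(S ⊔ U) := hS.to_sup_of_normal_right hU
  have h2 := eq_of_le_of_card_ge (le_sup_left : S ≤ S ⊔ U) (hc ▸ card_le_ord h1 (sup_le hSH hUH))
  exact h2 ▸ le_sup_right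

/-- If a normal subgroup of `H` has full `p`-part, it contains all `p`-elements of `H`. -/
theorem mem_of_ord_le {W H : Subgroup G} [W.Normal] (hWH : W ≤ H) (h : ord p H ≤ ord p W) {b : G}
    (hb : RElem p b) (hbH : b ∈ H) : b ∈ W := by
  have hi : ¬ p ∣ W.relIndex H := by
    intro hd
    have h1 := (W.subgroupOf H).card_mul_index
    rw [Nat.card_congr (subgroupOfEquivOfLe hWH).toEquiv] at h1
    have h2 : (Nat.card W).factorization p + (W.relIndex H).factorization p =
        (Nat.card H).factorization p := by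
      rw [← Finsupp.add_apply, ← Nat.factorization_mul Nat.card_pos.ne'
        (show W.relIndex H ≠ 0 from index_ne_zero_of_finite)]
      exact congrArg (fun k => k.factorization p) h1
    have h3 := (Nat.pow_le_pow_iff_right hp.out.one_lt).mp h
    have h4 : 0 < (W.relIndex H).factorization p :=
      hp.out.factorization_pos_of_dvd index_ne_zero_of_finite hd
    omega
  obtain ⟨k, hk⟩ := hb
  refine PTools69.mem_of_pow_mem (n := W.relIndex H) ?_ ?_
  · exact ((hp.out.coprime_iff_not_dvd.mpr hi).pow_left k).symm.coprime_dvd_right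
      (orderOf_dvd_of_pow_eq_one hk)
  · exact mem_subgroupOf.mp (pow_index_mem (W.subgroupOf H) ⟨b, hbH⟩)

omit hp in
/-- A noncentral element has a noncentral primary component. -/
theorem exists_primary : ∀ {g : G}, g ∉ center G →
    ∃ (r : ℕ) (a : G), r.Prime ∧ a ∈ zpowers g ∧ RElem r a ∧ a ∉ center G ∧ r ∣ orderOf g := by
  suffices ∀ (k : ℕ) (g : G), orderOf g = k → g ∉ center G →
      ∃ (r : ℕ) (a : G), r.Prime ∧ a ∈ zpowers g ∧ RElem r a ∧ a ∉ center G ∧ r ∣ orderOf g from
    fun {g} => this _ g rfl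
  intro k
  induction k using Nat.strong_induction_on with
  | _ k ih =>
    intro g hk hg
    have h1 : orderOf g ≠ 1 := fun e => hg (by rw [orderOf_eq_one_iff.mp e]; exact one_mem _)
    obtain ⟨r, hr, hrd⟩ := Nat.exists_prime_and_dvd h1
    haveI := Fact.mk hr
    obtain ⟨a, b, hab, ha, hb, har, hbr⟩ := TwoSizes69.exists_parts' (r := r) g
    by_cases hac : a ∈ center G
    · have hbc : b ∉ center G := fun h => hg (hab ▸ mul_mem hac h)
      have hlt : orderOf b < k := hk ▸ lt_of_le_of_ne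
        (Nat.le_of_dvd (orderOf_pos g) (orderOf_dvd_of_mem_zpowers hb)) (fun e => hbr (e ▸ hrd))
      obtain ⟨s, c, hs, hc, hcs, hcc, hsd⟩ := ih _ hlt b rfl hbc
      exact ⟨s, c, hs, zpowers_le.mpr hb hc, hcs, hcc, hsd.trans (orderOf_dvd_of_mem_zpowers hb)⟩
    · exact ⟨r, a, hr, ha, har, hac, hrd⟩

omit hp in
theorem coprime_orderOf {r s : ℕ} (hr : r.Prime) (hs : s.Prime) (hne : r ≠ s) {a b : G}
    (ha : RElem r a) (hb : RElem s b) : (orderOf a).Coprime (orderOf b) := by
  obtain ⟨i, hi⟩ := ha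
  obtain ⟨j, hj⟩ := hb
  exact (((Nat.coprime_primes hr hs).mpr hne).pow i j).coprime_dvd_left
    (orderOf_dvd_of_pow_eq_one hi) |>.coprime_dvd_right (orderOf_dvd_of_pow_eq_one hj)

omit hp in
theorem Cx_mul {a b : G} (hc : Commute a b) (hcop : (orderOf a).Coprime (orderOf b)) :
    Cx (a * b) = Cx a ⊓ Cx b := by
  refine le_antisymm (fun g hg => ?_) fun g hg => ?_
  · have ha : a ∈ zpowers (a * b) := by
      refine PTools69.mem_of_pow_mem (n := orderOf b) hcop.symm ⟨orderOf b, ?_⟩
      simp only [zpow_natCast]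
      rw [hc.mul_pow, pow_orderOf_eq_one, mul_one]
    have hb : b ∈ zpowers (a * b) := by
      refine PTools69.mem_of_pow_mem (n := orderOf a) hcop ⟨orderOf a, ?_⟩
      simp only [zpow_natCast]
      rw [hc.mul_pow, pow_orderOf_eq_one, one_mul]
    exact mem_inf.mpr ⟨TwoSizes69.centralizer_le_of_mem_zpowers ha hg,
      TwoSizes69.centralizer_le_of_mem_zpowers hb hg⟩
  · obtain ⟨h1, h2⟩ := mem_inf.mp hg
    exact mem_Cx.mpr (Commute.mul_right (mem_Cx.mp h1) (mem_Cx.mp h2)).eq

omit hp in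
/-- Commuting elements of coprime class sizes have commuting classes. -/
theorem commute_conj {a b : G} (hcop : (cs a).Coprime (cs b)) (hc : Commute a b) (g : G) :
    Commute a (g * b * g⁻¹) := by
  obtain ⟨c, hc', d, hd, rfl⟩ := exists_mul hcop g
  have h1 : c * d * b * (c * d)⁻¹ = c * b * c⁻¹ := by
    rw [show c * d * b * (c * d)⁻¹ = c * (d * b * d⁻¹) * c⁻¹ by group, mem_Cx_iff_conj.mp hd]
  have h2 : c * a * c⁻¹ = a := mem_Cx_iff_conj.mp hc'
  rw [h1]
  calc a * (c * b * c⁻¹) = c * a * c⁻¹ * (c * b * c⁻¹) := by rw [h2]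
    _ = c * (a * b) * c⁻¹ := by group
    _ = c * (b * a) * c⁻¹ := by rw [hc.eq]
    _ = c * b * c⁻¹ * (c * a * c⁻¹) := by group
    _ = c * b * c⁻¹ * a := by rw [h2]

/-- The class sizes are exactly `1, n, m, n m`. -/
structure Hyp (G : Type*) [Group G] (n m : ℕ) : Prop where
  hn : 1 < n
  hm : 1 < m
  cop : n.Coprime m
  sizes : ∀ g : G, cs g = 1 ∨ cs g = n ∨ cs g = m ∨ cs g = n * m
  ex_n : ∃ g : G, cs g = n
  ex_m : ∃ g : G, cs g = m
  ex_nm : ∃ g : G, cs g = n * m

/-- Some element of prime power order has class size `n` and order not prime to `n`. -/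
def GoodSide (G : Type*) [Group G] (n : ℕ) : Prop :=
  ∃ (p : ℕ) (x : G), p.Prime ∧ p ∣ n ∧ RElem p x ∧ cs x = n

variable {n m : ℕ}

omit hp in
theorem Hyp.symm (h : Hyp G n m) : Hyp G m n :=
  ⟨h.hm, h.hn, h.cop.symm, fun g => by have := h.sizes g; rw [mul_comm n m] at this; tauto, h.ex_m,
    h.ex_n, by rw [mul_comm]; exact h.ex_nm⟩

omit hp in
theorem Hyp.cs_dvd (h : Hyp G n m) (g : G) : cs g ∣ n * m := by
  rcases h.sizes g with e | e | e | e <;> rw [e] <;> simp

omit hp in
theorem Hyp.not_central (h : Hyp G n m) {g : G} (hg : cs g = n ∨ cs g = m ∨ cs g = n * m) :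
    g ∉ center G := by
  intro hc
  have h1 := cs_eq_one_iff.mpr hc
  have := h.hn; have := h.hm
  rcases hg with e | e | e <;> rw [e] at h1
  · omega
  · omega
  · have := Nat.eq_one_of_mul_eq_one_left (by rw [mul_comm]; exact h1 : m * n = 1)
    omega

omit hp in
theorem Hyp.noncentral_cases (h : Hyp G n m) {g : G} (hg : g ∉ center G) :
    cs g = n ∨ cs g = m ∨ cs g = n * m :=
  (h.sizes g).resolve_left fun e => hg (cs_eq_one_iff.mp e)

omit hp in
theorem Hyp.eq_n_of_dvd (h : Hyp G n m) {a : G} (ha : a ∉ center G) (hd : cs a ∣ n) : cs a = n := by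
  have := h.hn; have := h.hm
  rcases h.noncentral_cases ha with e | e | e
  · exact e
  · rw [e] at hd
    have := Nat.eq_one_of_dvd_coprimes h.cop hd dvd_rfl
    omega
  · rw [e] at hd
    have := Nat.eq_one_of_dvd_coprimes h.cop (dvd_trans (dvd_mul_left m n) hd) dvd_rfl
    omega

omit hp in
/-- There is a primary element of class size `n`. -/
theorem Hyp.exists_primary_n (h : Hyp G n m) :
    ∃ (p : ℕ) (x : G), p.Prime ∧ RElem p x ∧ cs x = n := by
  obtain ⟨g, hg⟩ := h.ex_n
  obtain ⟨r, a, hr, hag, har, hac, -⟩ := exists_primary (h.not_central (Or.inl hg))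
  exact ⟨r, a, hr, har, h.eq_n_of_dvd hac (hg ▸ cs_dvd_of_le (TwoSizes69.centralizer_le_of_mem_zpowers hag))⟩

omit hp in
theorem Hyp.eq_nm_of_dvd (h : Hyp G n m) {g : G} (h1 : n ∣ cs g) (h2 : m ∣ cs g) : cs g = n * m :=
  Nat.dvd_antisymm (h.cs_dvd g) (h.cop.mul_dvd_of_dvd_of_dvd h1 h2)

omit hp in
/-- An element of maximal class size has its centraliser inside that of every commuting element of
coprime order. -/
theorem Hyp.absorb (h : Hyp G n m) {a b : G} (ha : cs a = n * m) (hc : Commute a b)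
    (hcop : (orderOf a).Coprime (orderOf b)) : Cx a ≤ Cx b := by
  have h1 := Cx_mul hc hcop
  have h2 : Cx (a * b) ≤ Cx a := h1 ▸ inf_le_left
  have h3 : Cx (a * b) = Cx a := eq_of_le_of_cs_le h2 (by
    rw [ha]
    exact Nat.le_of_dvd (Nat.mul_pos (by have := h.hn; omega) (by have := h.hm; omega)) (h.cs_dvd _))
  rw [← h3, h1]
  exact inf_le_right

omit hp in
theorem Hyp.inter (h : Hyp G n m) {a b : G} (ha : cs a = n) (hb : cs b = m) :
    (Cx a ⊓ Cx b).index = n * m := by
  rw [index_inf_of_coprime (by rw [ha, hb]; exact h.cop), ha, hb]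

omit hp in
/-- An element of prime power order, for a prime dividing no class size, is central. -/
theorem Hyp.central_of_not_dvd (h : Hyp G n m) {r : ℕ} (hr : r.Prime) (hrn : ¬ r ∣ n)
    (hrm : ¬ r ∣ m) {w : G} (hw : RElem r w) : w ∈ center G := by
  haveI := Fact.mk hr
  obtain ⟨P, -, hP, hPc, hwP⟩ := exists_pSub_mem (H := (⊤ : Subgroup G)) hw (mem_top w)
  have key : ∀ g : G, ∃ a : G, a * g * a⁻¹ ∈ centralizer (P : Set G) := by
    intro g
    have hi : ¬ r ∣ (Cx g).index := fun hd =>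
      ((hr.dvd_mul).mp (hd.trans (h.cs_dvd g))).elim hrn hrm
    obtain ⟨S, hSle, hS, hSc⟩ := exists_pSub (p := r) (Cx g)
    rw [ord_eq_top hi] at hSc
    have e1 : Nat.card S = r ^ (Nat.card G).factorization r := by rw [hSc, ord, card_top]
    have e2 : Nat.card P = r ^ (Nat.card G).factorization r := by rw [hPc, ord, card_top]
    obtain ⟨a, ha⟩ := MulAction.exists_smul_eq G (Sylow.ofCard S e1) (Sylow.ofCard P e2)
    refine ⟨a, mem_centralizer_iff.mpr fun y hy => ?_⟩
    have hy' : a⁻¹ * y * a ∈ S := by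
      have h2 : y ∈ ((Sylow.ofCard P e2 : Sylow r G) : Subgroup G) := hy
      rw [← ha, TwoSizes69.mem_smul_sylow] at h2
      exact h2
    have h1 : a⁻¹ * y * a * g = g * (a⁻¹ * y * a) := mem_Cx.mp (hSle hy')
    calc y * (a * g * a⁻¹) = a * (a⁻¹ * y * a * g) * a⁻¹ := by group
      _ = a * (g * (a⁻¹ * y * a)) * a⁻¹ := by rw [h1]
      _ = a * g * a⁻¹ * y := by group
  refine mem_center_iff.mpr fun g => ?_
  exact (mem_centralizer_iff.mp ((GroupBasics.eq_top_of_forall_conj_mem key).symm ▸ mem_top g) w hwP).symm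

omit hp in
/-- Jordan: if `p` divides no class size of a `p'`-element, the Sylow `p`-subgroup is a direct
factor. -/
theorem jordan {X : Type*} [Group X] [Finite X] {p : ℕ} [Fact p.Prime]
    (h : ∀ b : X, ¬ p ∣ orderOf b → ¬ p ∣ (centralizer ({b} : Set X)).index) (P : Sylow p X) :
    (P : Subgroup X).Normal ∧
      ∀ b : X, ¬ p ∣ orderOf b → b ∈ centralizer ((P : Subgroup X) : Set X) := by
  have hcard : ∀ b : X, ¬ p ∣ orderOf b → ∀ a : X, RElem p a → a * b = b * a →
      ∃ S : Sylow p X, a ∈ (S : Subgroup X) ∧ (S : Subgroup X) ≤ Cx b := by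
    intro b hb a ha hab
    obtain ⟨S, hSle, hS, hSc, haS⟩ := exists_pSub_mem (H := Cx b) ha (mem_Cx.mpr hab)
    rw [ord_eq_top (h b hb), ord, card_top] at hSc
    exact ⟨Sylow.ofCard S hSc, haS, hSle⟩
  set W := (P : Subgroup X) ⊔ centralizer ((P : Subgroup X) : Set X) with hW
  have hcen : ∀ (S : Sylow p X) (b : X), (S : Subgroup X) ≤ Cx b → ∀ c : X, c • S = P →
      c * b * c⁻¹ ∈ centralizer ((P : Subgroup X) : Set X) := by
    intro S b hSb c hc
    refine mem_centralizer_iff.mpr fun y hy => ?_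
    have hy' : c⁻¹ * y * c ∈ (S : Subgroup X) := by
      have h2 : y ∈ (P : Subgroup X) := hy
      rw [← hc, TwoSizes69.mem_smul_sylow] at h2
      exact h2
    have h1 : c⁻¹ * y * c * b = b * (c⁻¹ * y * c) := mem_Cx.mp (hSb hy')
    calc y * (c * b * c⁻¹) = c * (c⁻¹ * y * c * b) * c⁻¹ := by group
      _ = c * (b * (c⁻¹ * y * c)) * c⁻¹ := by rw [h1]
      _ = c * b * c⁻¹ * y := by group
  have htop : W = ⊤ := by
    refine GroupBasics.eq_top_of_forall_conj_mem fun g => ?_
    obtain ⟨a, b, hab, hag, hbg, har, hbr⟩ := TwoSizes69.exists_parts' (r := p) g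
    have hcomm : a * b = b * a := by
      obtain ⟨i, rfl⟩ := mem_zpowers_iff.mp hag
      obtain ⟨j, rfl⟩ := mem_zpowers_iff.mp hbg
      rw [← zpow_add, ← zpow_add, add_comm]
    obtain ⟨S, haS, hSb⟩ := hcard b hbr a har hcomm
    obtain ⟨c, hc⟩ := MulAction.exists_smul_eq X S P
    refine ⟨c, ?_⟩
    rw [hab, show c * (a * b) * c⁻¹ = c * a * c⁻¹ * (c * b * c⁻¹) by group]
    exact mul_mem (mem_sup_left (hc ▸ TwoSizes69.smul_mem haS c)) (mem_sup_right (hcen S b hSb c hc))
  have hnormal : (P : Subgroup X).Normal := by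
    rw [← normalizer_eq_top_iff, eq_top_iff, ← htop]
    exact sup_le le_normalizer (centralizer_le_normalizer _)
  refine ⟨hnormal, fun b hb => ?_⟩
  obtain ⟨S, -, hSb⟩ := hcard b hb 1 ⟨0, one_pow _⟩ (by simp)
  haveI := Sylow.unique_of_normal P hnormal
  have hSP : S = P := Subsingleton.elim _ _
  have := hcen S b hSb 1 (by rw [one_smul, hSP])
  simpa using this

end CfsgLib.ConjType69
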