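/- Class sizes `1, n, m, n m`: covering argument and the case of two good sides. -/
import Cfsg.Agent.ConjType69.Basic
import Cfsg.Agent.S4134
import Cfsg.Agent.Solvable.Fitting
import Cfsg.Agent.Coprime.PTimesQ

set_option autoImplicit false
set_option linter.unusedSectionVars false

namespace CfsgLib.ConjType69

open Subgroup CfsgLib.ClassCoprime69
open CfsgLib.TwoSizes69 (RElem)

variable {G : Type*} [Group G] [Finite G] {n m : ℕ}

/-- Conjugating a Sylow subgroup of a centraliser of full `p`-part onto a given one. -/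
theorem exists_conj_le {r : ℕ} [Fact r.Prime] {y : G} (hy : ¬ r ∣ cs y) {S : Subgroup G}
    (hSc : Nat.card S = ord r (⊤ : Subgroup G)) :
    ∃ c : G, S ≤ Cx (c * y * c⁻¹) := by
  obtain ⟨T, hTle, -, hTc⟩ := exists_pSub (p := r) (Cx y)
  rw [ord_eq_top (show ¬ r ∣ (Cx y).index from hy), ord, card_top] at hTc
  rw [ord, card_top] at hSc
  obtain ⟨c, hc⟩ := MulAction.exists_smul_eq G (Sylow.ofCard T hTc) (Sylow.ofCard S hSc)
  refine ⟨c, fun s hs => ?_⟩
  have h2 : s ∈ ((Sylow.ofCard S hSc : Sylow r G) : Subgroup G) := hs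
  rw [← hc, TwoSizes69.mem_smul_sylow] at h2
  have h3 := conj_mem_Cx_conj (g := c) (hTle h2)
  rwa [show c * (c⁻¹ * s * c) * c⁻¹ = s by group] at h3

theorem conj_mem_Cx_of_mem {g c y : G} (h : g ∈ Cx (c * y * c⁻¹)) : c⁻¹ * g * c ∈ Cx y := by
  have h1 := conj_mem_Cx_conj (g := c⁻¹) h
  rwa [inv_inv, show c⁻¹ * (c * y * c⁻¹) * c = y by group] at h1

theorem Hyp.not_dvd (h : Hyp G n m) {r : ℕ} (hr : r.Prime) (hrn : r ∣ n) : ¬ r ∣ m := fun hd =>
  hr.not_dvd_one (h.cop ▸ Nat.dvd_gcd hrn hd)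

theorem Hyp.factorization_le (h : Hyp G n m) {r : ℕ} [Fact r.Prime] (hrm : ¬ r ∣ m) (g : G) :
    (cs g).factorization r ≤ n.factorization r := by
  have := h.hn; have := h.hm
  have h1 := (Nat.factorization_le_iff_dvd (cs_pos g).ne' (by positivity)).mpr (h.cs_dvd g) r
  rwa [Nat.factorization_mul (by omega) (by omega), Finsupp.add_apply,
    Nat.factorization_eq_zero_of_not_dvd hrm, add_zero] at h1

/-- If no element of prime power order and type `n` has order dividing into `n`, then for every prime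
`r ∣ n` every primary element of type `m` is an `r`-element. -/
theorem Hyp.prime_unique (h : Hyp G n m) (hbad : ¬ GoodSide G n) {r : ℕ} [hr : Fact r.Prime]
    (hrn : r ∣ n) {q : ℕ} (hq : q.Prime) {y : G} (hy : RElem q y) (hym : cs y = m) : q = r := by
  by_contra hne
  have hrm : ¬ r ∣ m := h.not_dvd hr.out hrn
  have cover : ∀ (q' : ℕ) (y' : G), q'.Prime → q' ≠ r → RElem q' y' → cs y' = m →
      ∀ w : G, RElem r w → w ∉ center G →
      ∃ c : G, Cx w ≤ Cx (c * y' * c⁻¹) ∧ (cs w = m → Cx w = Cx (c * y' * c⁻¹)) := by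
    intro q' y' hq' hne' hy' hym' w hw hwc
    have hcop : ∀ c : G, (orderOf w).Coprime (orderOf (c * y' * c⁻¹)) := fun c =>
      coprime_orderOf hr.out hq' (Ne.symm hne') hw (hy'.conj c)
    have hry : ¬ r ∣ cs y' := hym' ▸ hrm
    rcases h.noncentral_cases hwc with e | e | e
    · exact absurd ⟨r, w, hr.out, hrn, hw, e⟩ hbad
    · obtain ⟨S, hSle, -, hSc, hwS⟩ := exists_pSub_mem (H := Cx w) hw (mem_Cx_self w)
      rw [ord_eq_top (show ¬ r ∣ (Cx w).index from fun hd => hrm (e ▸ hd))] at hSc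
      obtain ⟨c, hc⟩ := exists_conj_le hry hSc
      have hcomm : Commute w (c * y' * c⁻¹) := mem_Cx.mp (hc hwS)
      have e2 := Cx_mul hcomm (hcop c)
      have hS2 : S ≤ Cx (w * (c * y' * c⁻¹)) := e2 ▸ le_inf hSle hc
      have hnd : ¬ r ∣ cs (w * (c * y' * c⁻¹)) := by
        intro hd
        have h1 := hd.trans (index_dvd_of_le hS2)
        rw [ord, card_top] at hSc
        exact (Sylow.ofCard S hSc).not_dvd_index h1
      have h3 : Cx (w * (c * y' * c⁻¹)) ≤ Cx w := e2.trans_le inf_le_left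
      have hcs : cs (w * (c * y' * c⁻¹)) = m := by
        have h4 : m ∣ cs (w * (c * y' * c⁻¹)) := e ▸ cs_dvd_of_le h3
        rcases h.sizes (w * (c * y' * c⁻¹)) with e' | e' | e' | e'
        · rw [e'] at h4; have := Nat.le_of_dvd one_pos h4; have := h.hm; omega
        · exact absurd (e' ▸ hrn) hnd
        · exact e'
        · exact absurd (e' ▸ dvd_mul_of_dvd_left hrn m) hnd
      have h5 : Cx (w * (c * y' * c⁻¹)) = Cx w :=
        eq_of_le_of_cs_le h3 (show cs (w * (c * y' * c⁻¹)) ≤ cs w by rw [hcs, e])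
      have h6 : Cx (w * (c * y' * c⁻¹)) = Cx (c * y' * c⁻¹) :=
        eq_of_le_of_cs_le (e2.trans_le inf_le_right)
          (show cs (w * (c * y' * c⁻¹)) ≤ cs (c * y' * c⁻¹) by rw [hcs, cs_conj, hym'])
      have h7 : Cx w = Cx (c * y' * c⁻¹) := h5.symm.trans h6
      exact ⟨c, h7.le, fun _ => h7⟩
    · obtain ⟨S, -, -, hSc, hwS⟩ := exists_pSub_mem (H := (⊤ : Subgroup G)) hw (mem_top w)
      obtain ⟨c, hc⟩ := exists_conj_le hry hSc
      refine ⟨c, h.absorb e (mem_Cx.mp (hc hwS)) (hcop c), fun e' => ?_⟩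
      rw [e] at e'
      have h8 : n * m = 1 * m := by rw [one_mul]; exact e'
      have := Nat.eq_of_mul_eq_mul_right (by have := h.hm; omega) h8
      have := h.hn
      omega
  by_cases hall : ∀ g : G, ∃ w ∈ Cx g, RElem r w ∧ w ∉ center G
  · refine h.not_central (Or.inr (Or.inl hym)) (Cx_eq_top_iff.mp
      (GroupBasics.eq_top_of_forall_conj_mem fun g => ?_))
    obtain ⟨w, hwg, hw, hwc⟩ := hall g
    obtain ⟨c, hc, -⟩ := cover q y hq hne hy hym w hw hwc
    exact ⟨c⁻¹, by rw [inv_inv]; exact conj_mem_Cx_of_mem (hc (mem_Cx_comm.mp hwg))⟩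
  push Not at hall
  obtain ⟨g0, hg0⟩ := hall
  have hsmall : ∀ g : G, n ∣ cs g → ∀ w ∈ Cx g, RElem r w → w ∈ center G := by
    intro g hg w hwg hw
    by_contra hwc
    obtain ⟨S, hSle, hS, hSc, hwS⟩ := exists_pSub_mem hw hwg
    obtain ⟨S0, hS0le, hS0, hS0c⟩ := exists_pSub (p := r) (Cx g0)
    have hZn : (TwoSizes69.Zr r G).Normal := ⟨fun u hu c => by
      rw [mem_center_iff.mp hu.1 c, mul_inv_cancel_right]; exact hu⟩
    have h0 : S0 ≤ TwoSizes69.Zr r G := fun u hu =>
      ⟨hg0 u (hS0le hu) (RElem.of_mem hS0 hu), RElem.of_mem hS0 hu⟩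
    have h1 : TwoSizes69.Zr r G ≤ S := normal_le_pSub TwoSizes69.Zr_isPGroup
      ((TwoSizes69.Zr_le_center r).trans (center_le_Cx g)) hS hSle hSc
    have hfac : (cs g0).factorization r ≤ (cs g).factorization r :=
      (h.factorization_le hrm g0).trans
        ((Nat.factorization_le_iff_dvd (by have := h.hn; omega) (cs_pos g).ne').mpr hg r)
    have h2 : ord r (Cx g) ≤ ord r (Cx g0) := by
      have a1 := ord_mul (p := r) (Cx g)
      have a2 := ord_mul (p := r) (Cx g0)
      have a3 := Nat.pow_le_pow_right hr.out.pos hfac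
      change ord r (Cx g) * r ^ (cs g).factorization r = _ at a1
      change ord r (Cx g0) * r ^ (cs g0).factorization r = _ at a2
      refine Nat.le_of_mul_le_mul_right ?_ (pow_pos hr.out.pos ((cs g).factorization r))
      rw [a1, ← a2]
      exact Nat.mul_le_mul_left _ a3
    have h3 : Nat.card S ≤ Nat.card (TwoSizes69.Zr r G) := by
      rw [hSc]; exact h2.trans (hS0c ▸ card_le_of_le h0)
    exact hwc ((eq_of_le_of_card_ge h1 h3).ge hwS).1
  obtain ⟨x, hx⟩ := h.ex_n
  obtain ⟨w0, hw0, hw0c⟩ : ∃ w : G, RElem r w ∧ w ∉ center G := by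
    by_contra hno
    push Not at hno
    obtain ⟨P⟩ := (inferInstance : Nonempty (Sylow r G))
    have hle : (P : Subgroup G) ≤ Cx x := fun u hu =>
      center_le_Cx x (hno u (RElem.of_mem P.isPGroup' hu))
    exact P.not_dvd_index ((show r ∣ (Cx x).index by change r ∣ cs x; rw [hx]; exact hrn).trans (index_dvd_of_le hle))
  have hw0m : cs w0 = m := by
    rcases h.noncentral_cases hw0c with e | e | e
    · exact absurd ⟨r, w0, hr.out, hrn, hw0, e⟩ hbad
    · exact e
    · exact absurd (hsmall w0 (e ▸ dvd_mul_right n m) w0 (mem_Cx_self w0) hw0) hw0c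
  have hxw : x ∉ Cx w0 := fun hh =>
    hw0c (hsmall x (hx ▸ dvd_rfl) w0 (mem_Cx_comm.mp hh) hw0)
  obtain ⟨g1, hg1D, hg1c⟩ : ∃ g ∈ Cx x ⊓ Cx w0, g ∉ center G := by
    by_contra hno
    push Not at hno
    obtain ⟨g, hg⟩ := h.ex_nm
    have h1 : center G = Cx g := eq_of_le_of_cs_le (center_le_Cx g)
      (show (center G).index ≤ cs g by
        rw [hg, ← h.inter hx hw0m]
        exact Nat.le_of_dvd (Nat.pos_of_ne_zero index_ne_zero_of_finite) (index_dvd_of_le hno))
    exact h.not_central (Or.inr (Or.inr hg)) (h1 ▸ mem_Cx_self g)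
  obtain ⟨s, v, hs, hvg, hv, hvc, -⟩ := exists_primary hg1c
  obtain ⟨hvx, hvw⟩ := mem_inf.mp (zpowers_le.mpr hg1D hvg)
  have hsr : s ≠ r := fun e => hvc (hsmall x (hx ▸ dvd_rfl) v hvx (e ▸ hv))
  have hvw' : Commute v w0 := mem_Cx.mp hvw
  rcases h.noncentral_cases hvc with e | e | e
  · exact hw0c (hsmall v (e ▸ dvd_rfl) w0 (mem_Cx.mpr hvw'.symm.eq) hw0)
  · obtain ⟨c, -, hc⟩ := cover s v hs hsr hv e w0 hw0 hw0c
    refine hxw ?_
    rw [hc hw0m]
    exact mem_Cx.mpr (commute_conj (by rw [hx, e]; exact h.cop) (mem_Cx.mp hvx).symm c).eq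
  · exact hxw (h.absorb e hvw' (coprime_orderOf hs hr.out hsr hv hw0) (mem_Cx_comm.mp hvx))

/-- In the centraliser of a `q`-element of type `m` with `q ∤ n`, the Sylow `q`-subgroup is
normal and centralised by the `q'`-elements. -/
theorem Hyp.relIndex_cases (h : Hyp G n m) {q : ℕ} [Fact q.Prime] {y : G} (hy : RElem q y)
    (hym : cs y = m) {b : G} (hb : b ∈ Cx y) (hbq : ¬ q ∣ orderOf b) :
    (Cx b).relIndex (Cx y) = 1 ∨ (Cx b).relIndex (Cx y) = n := by
  have e := Cx_mul (show Commute y b from (mem_Cx.mp hb).symm) (hy.coprime hbq)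
  have h1 := relIndex_mul_index (inf_le_left : Cx y ⊓ Cx b ≤ Cx y)
  rw [inf_relIndex_left, ← e] at h1
  change (Cx b).relIndex (Cx y) * cs y = cs (y * b) at h1
  rw [hym] at h1
  have := h.hn; have := h.hm
  rcases h.sizes (y * b) with e' | e' | e' | e' <;> rw [e'] at h1
  · have := Nat.eq_one_of_mul_eq_one_left h1; omega
  · have := Nat.eq_one_of_dvd_coprimes h.cop ⟨_, by rw [← h1, mul_comm]⟩ (dvd_refl m); omega
  · exact Or.inl (Nat.eq_of_mul_eq_mul_right (by omega) (h1.trans (one_mul m).symm))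
  · exact Or.inr (Nat.eq_of_mul_eq_mul_right (by omega) h1)

theorem centralizer_singleton_subgroupOf (K : Subgroup G) (b : K) :
    centralizer ({b} : Set K) = (Cx (b : G)).subgroupOf K := by
  ext u
  rw [mem_subgroupOf, mem_centralizer_singleton_iff, mem_centralizer_singleton_iff]
  exact ⟨fun e => congrArg Subtype.val e, fun e => Subtype.ext e⟩

theorem Hyp.local_jordan (h : Hyp G n m) {q : ℕ} [Fact q.Prime] {y : G} (hy : RElem q y)
    (hym : cs y = m) (hqn : ¬ q ∣ n) (P : Sylow q (Cx y)) :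
    (P : Subgroup (Cx y)).Normal ∧
      ∀ b : Cx y, ¬ q ∣ orderOf b → b ∈ centralizer ((P : Subgroup (Cx y)) : Set (Cx y)) := by
  refine jordan (fun b hb => ?_) P
  rw [centralizer_singleton_subgroupOf, ← relIndex]
  rw [← Subgroup.orderOf_coe] at hb
  rcases h.relIndex_cases hy hym b.2 hb with e | e <;> rw [e]
  · exact (Fact.out : q.Prime).not_dvd_one
  · exact hqn

/-- In such a centraliser `q`-elements commute with `q'`-elements. -/
theorem Hyp.commute_local (h : Hyp G n m) {q : ℕ} [Fact q.Prime] {y : G} (hy : RElem q y)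
    (hym : cs y = m) (hqn : ¬ q ∣ n) {a b : G} (ha : a ∈ Cx y) (haq : RElem q a) (hb : b ∈ Cx y)
    (hbq : ¬ q ∣ orderOf b) : Commute a b := by
  obtain ⟨P⟩ := (inferInstance : Nonempty (Sylow q (Cx y)))
  obtain ⟨hn, hc⟩ := h.local_jordan hy hym hqn P
  have haP : (⟨a, ha⟩ : Cx y) ∈ (P : Subgroup (Cx y)) := by
    refine PTools69.mem_sylow_of_normalizes P (by rw [normalizer_eq_top]; trivial) ?_
    obtain ⟨k, hk⟩ := haq
    exact ⟨k, Subtype.ext (by simpa using hk)⟩
  exact congrArg Subtype.val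
    (mem_centralizer_iff.mp (hc ⟨b, hb⟩ (by rwa [← Subgroup.orderOf_coe])) _ haP)

/-- The normal `q`-complement of such a centraliser, inside `G`. -/
theorem Hyp.exists_compl (h : Hyp G n m) {q : ℕ} [hq : Fact q.Prime] {y : G} (hy : RElem q y)
    (hym : cs y = m) (hqn : ¬ q ∣ n) :
    ∃ N : Subgroup G, N ≤ Cx y ∧ (∀ g ∈ Cx y, ¬ q ∣ orderOf g → g ∈ N) ∧
      (∀ g ∈ N, ¬ q ∣ orderOf g) ∧
      ∀ g : N, ((centralizer ({g} : Set N)).index = (Cx (g : G)).relIndex (Cx y)) := by
  obtain ⟨P⟩ := (inferInstance : Nonempty (Sylow q (Cx y)))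
  obtain ⟨hPn, hPc⟩ := h.local_jordan hy hym hqn P
  haveI := hPn
  obtain ⟨N0, hN0⟩ := exists_right_complement'_of_coprime (N := (P : Subgroup (Cx y))) P.card_coprime_index
  have hcardN : Nat.card N0 = (P : Subgroup (Cx y)).index := hN0.symm.index_eq_card.symm
  have hnd : ∀ g ∈ N0, ¬ q ∣ orderOf g := fun g hg hd =>
    P.not_dvd_index (hd.trans (hcardN ▸ orderOf_dvd_natCard N0 hg))
  have hmemN : ∀ g : Cx y, ¬ q ∣ orderOf g → g ∈ N0 := by
    intro g hg
    obtain ⟨⟨⟨a, ha⟩, ⟨c, hc⟩⟩, hac⟩ := hN0.2 g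
    simp only at hac
    have hac' : a * c = g := hac
    have h1 : Commute a c := mem_centralizer_iff.mp (hPc c (hnd c hc)) a ha
    have h2 : Commute a g := mem_centralizer_iff.mp (hPc g hg) a ha
    have hgc : Commute g c⁻¹ := by
      rw [← hac']; exact (h1.mul_left (Commute.refl c)).inv_right
    have ha1 : a = 1 := by
      obtain ⟨k, hk⟩ := P.isPGroup' ⟨a, ha⟩
      have hk' : a ^ q ^ k = 1 := congrArg Subtype.val hk
      refine RElem.eq_one (r := q) ⟨k, hk'⟩ ?_
      intro hd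
      rw [show a = g * c⁻¹ by rw [← hac', mul_inv_cancel_right]] at hd
      have h3 := hd.trans hgc.orderOf_mul_dvd_mul_orderOf
      rw [orderOf_inv] at h3
      exact (hq.out.dvd_mul.mp h3).elim hg (hnd c hc)
    rw [← hac', ha1, one_mul]; exact hc
  refine ⟨N0.map (Cx y).subtype, map_subtype_le _, fun g hg hgq => ⟨⟨g, hg⟩, hmemN ⟨g, hg⟩ (by
    rwa [← Subgroup.orderOf_coe]), rfl⟩, ?_, fun g => ?_⟩
  · rintro _ ⟨g, hg, rfl⟩
    rw [show ((Cx y).subtype g) = (g : G) from rfl, Subgroup.orderOf_coe]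
    exact hnd g hg
  · obtain ⟨_, g, hg, rfl⟩ := g
    set g0 : G := (g : G)
    set C := (Cx g0).subgroupOf (Cx y) with hC
    rw [centralizer_singleton_subgroupOf, ← relIndex, ← relIndex_comap]
    show C.relIndex N0 = C.index
    have hPC : (P : Subgroup (Cx y)) ≤ C := fun a ha => by
      refine mem_subgroupOf.mpr (mem_Cx.mpr ?_)
      exact congrArg Subtype.val (mem_centralizer_iff.mp (hPc g (hnd g hg)) a ha)
    refine le_antisymm ?_ ?_
    · exact relIndex_top_right C ▸ relIndex_le_of_le_right le_top (by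
        rw [relIndex_top_right]; exact index_ne_zero_of_finite)
    · have h1 : Nat.card P * Nat.card ↥(C ⊓ N0) ≤ Nat.card C := by
        rw [← Nat.card_prod]
        refine Nat.card_le_card_of_injective
          (fun w : P × ↥(C ⊓ N0) => (⟨(w.1 : Cx y) * (w.2 : Cx y),
            mul_mem (hPC w.1.2) (mem_inf.mp w.2.2).1⟩ : C)) fun w w' e => ?_
        have e' := congrArg Subtype.val e
        have e2 := hN0.1 (a₁ := (w.1, ⟨(w.2 : Cx y), (mem_inf.mp w.2.2).2⟩))
          (a₂ := (w'.1, ⟨(w'.2 : Cx y), (mem_inf.mp w'.2.2).2⟩)) e'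
        have e3 := congrArg Prod.fst e2
        have e4 := congrArg (fun z => ((Prod.snd z : N0) : Cx y)) e2
        exact Prod.ext e3 (Subtype.ext e4)
      have h2 : C.relIndex N0 * Nat.card ↥(C ⊓ N0) = Nat.card N0 := by
        have h := relIndex_mul_relIndex ⊥ (C ⊓ N0) N0 bot_le inf_le_right
        rwa [relIndex_bot_left, relIndex_bot_left, inf_relIndex_right, mul_comm] at h
      have h3 := C.card_mul_index
      rw [← hN0.card_mul, ← h2] at h3
      refine Nat.le_of_mul_le_mul_left ?_ (Nat.card_pos : 0 < Nat.card C)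
      rw [h3]
      calc Nat.card P * (C.relIndex N0 * Nat.card ↥(C ⊓ N0))
          = Nat.card P * Nat.card ↥(C ⊓ N0) * C.relIndex N0 := by ring
        _ ≤ Nat.card C * C.relIndex N0 := Nat.mul_le_mul_right _ h1

/-- With good sides, `n` is a prime power. -/
theorem Hyp.primePow_of_good (h : Hyp G n m) {p : ℕ} (hp : p.Prime) {x : G} (hpn : p ∣ n)
    (hx : RElem p x) (hxn : cs x = n) {q : ℕ} [hq : Fact q.Prime] {y : G} (hqm : q ∣ m)
    (hy : RElem q y) (hym : cs y = m) : ∃ a : ℕ, n = p ^ a := by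
  haveI := Fact.mk hp
  have hqn : ¬ q ∣ n := h.symm.not_dvd hq.out hqm
  have hpm : ¬ p ∣ m := h.not_dvd hp hpn
  obtain ⟨N, hNle, hNmem, hNq, hNidx⟩ := h.exists_compl hy hym hqn
  have hsz : ∀ g : N, (centralizer ({g} : Set N)).index = 1 ∨
      (centralizer ({g} : Set N)).index = n := fun g => by
    rw [hNidx g]
    exact h.relIndex_cases hy hym (hNle g.2) (hNq g g.2)
  obtain ⟨S, -, -, hSc, hxS⟩ := exists_pSub_mem (H := (⊤ : Subgroup G)) hx (mem_top x)
  obtain ⟨c, hc⟩ := exists_conj_le (r := p) (y := y) (hym ▸ hpm) hSc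
  set x' := c⁻¹ * x * c with hx'
  have hx'y : x' ∈ Cx y := conj_mem_Cx_of_mem (hc hxS)
  have hpq : p ≠ q := fun e => hpm (e ▸ hqm)
  have hx'r : RElem p x' := by
    have := hx.conj c⁻¹
    rwa [inv_inv] at this
  have hx'q : ¬ q ∣ orderOf x' := by
    obtain ⟨k, hk⟩ := hx'r
    exact fun hd => hpq ((Nat.prime_dvd_prime_iff_eq hq.out hp).mp
      (hq.out.dvd_of_dvd_pow (hd.trans (orderOf_dvd_of_pow_eq_one hk)))).symm
  have hx'n : cs x' = n := by
    have := cs_conj c⁻¹ x
    rw [inv_inv, hxn] at this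
    exact this
  have hex : ∃ g : N, (centralizer ({g} : Set N)).index = n := by
    refine ⟨⟨x', hNmem x' hx'y hx'q⟩, ?_⟩
    rw [hNidx]
    refine (h.relIndex_cases hy hym hx'y hx'q).resolve_left fun e1 => ?_
    have h1 := relIndex_eq_one.mp e1
    have h2 : cs x' ∣ cs y := index_dvd_of_le h1
    rw [hx'n, hym] at h2
    have := Nat.eq_one_of_dvd_coprimes h.cop dvd_rfl h2
    have := h.hn; omega
  obtain ⟨s, hs, a, ha, -⟩ := Cfsg.Agent.S4134.result n h.hn hsz hex
  refine ⟨a, ?_⟩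
  rw [ha, (Nat.prime_dvd_prime_iff_eq hp hs.out).mp (hp.dvd_of_dvd_pow (ha ▸ hpn))]

/-- A `p`-element with class size a power of `p` lies in `O_p`. -/
theorem mem_pCore_of_cs_primePow {p : ℕ} [hp : Fact p.Prime] {x : G} (hx : RElem p x) {a : ℕ}
    (ha : cs x = p ^ a) : x ∈ Cfsg.pCore p G := by
  obtain ⟨P, -, hP, hPc, hxP⟩ := exists_pSub_mem (H := (⊤ : Subgroup G)) hx (mem_top x)
  set C := Cx x
  let f : ↥P ⧸ C.subgroupOf P → G ⧸ C := Quotient.lift (fun u : P => ((u : G) : G ⧸ C))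
    (fun u w huw => QuotientGroup.eq.mpr (mem_subgroupOf.mp
      (QuotientGroup.leftRel_apply.mp huw : u⁻¹ * w ∈ C.subgroupOf P)))
  have hinj : Function.Injective f := by
    intro u w huw
    induction u using Quotient.inductionOn with | _ u => ?_
    induction w using Quotient.inductionOn with | _ w => ?_
    exact Quotient.sound (QuotientGroup.leftRel_apply.mpr (QuotientGroup.eq.mp huw : (u : G)⁻¹ * w ∈ C))
  have hge : Nat.card (G ⧸ C) ≤ Nat.card (↥P ⧸ C.subgroupOf P) := by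
    have h1 := (C.subgroupOf P).card_mul_index
    rw [← inf_subgroupOf_right, Nat.card_congr (subgroupOfEquivOfLe inf_le_right).toEquiv,
      inf_subgroupOf_right] at h1
    have h2 := ord_mul (p := p) C
    change ord p C * p ^ (cs x).factorization p = _ at h2
    rw [ha, Nat.Prime.factorization_pow hp.out, Finsupp.single_eq_same, ← hPc, ← h1] at h2
    have h3 : Nat.card ↥(C ⊓ P) ≤ ord p C := card_le_ord (hP.to_le inf_le_right) inf_le_left
    show C.index ≤ (C.subgroupOf P).index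
    rw [show C.index = p ^ a from ha]
    refine Nat.le_of_mul_le_mul_left ?_ (Nat.card_pos : 0 < Nat.card ↥(C ⊓ P))
    rw [← h2]
    exact Nat.mul_le_mul_right _ h3
  have hconj : ∀ g : G, g * x * g⁻¹ ∈ P := by
    intro g
    obtain ⟨u, hu⟩ := (hinj.bijective_of_nat_card_le hge).2 (g : G ⧸ C)
    induction u using Quotient.inductionOn with | _ u => ?_
    have h1 : (u : G)⁻¹ * g ∈ C := QuotientGroup.eq.mp hu
    have h2 := mem_Cx_iff_conj.mp h1
    rw [show g * x * g⁻¹ = (u : G) * ((u : G)⁻¹ * g * x * ((u : G)⁻¹ * g)⁻¹) * (u : G)⁻¹ by group, h2]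
    exact mul_mem (mul_mem u.2 hxP) (inv_mem u.2)
  have hle : normalClosure ({x} : Set G) ≤ P := by
    rw [normalClosure, closure_le]
    intro g hg
    obtain ⟨a', ha', hconj'⟩ := Group.mem_conjugatesOfSet_iff.mp hg
    obtain ⟨c, rfl⟩ := isConj_iff.mp hconj'
    rw [Set.mem_singleton_iff.mp ha']
    exact hconj c
  exact Solvable.le_pCore (hP.to_le hle) (subset_normalClosure rfl)

/-- Both sides good: the Sylow subgroup for the prime of `m` is normal. -/
theorem Hyp.sylow_normal (h : Hyp G n m) {p q : ℕ} [hp : Fact p.Prime] [hq : Fact q.Prime] {x : G}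
    (hx : RElem p x) (hxn : cs x = n) {a b : ℕ} (ha : n = p ^ a) (hb : m = q ^ b) (Q : Sylow q G) :
    (Q : Subgroup G).Normal := by
  have hpn : p ∣ n := by
    rw [ha]; exact dvd_pow_self p (fun e => by rw [e, pow_zero] at ha; have := h.hn; omega)
  have hqm : q ∣ m := by
    rw [hb]; exact dvd_pow_self q (fun e => by rw [e, pow_zero] at hb; have := h.hm; omega)
  have hpm : ¬ p ∣ m := h.not_dvd hp.out hpn
  have hqn : ¬ q ∣ n := h.symm.not_dvd hq.out hqm
  have hqp : q ≠ p := fun e => hqn (e ▸ hpn)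
  have hxU : x ∈ Cfsg.pCore p G := mem_pCore_of_cs_primePow hx (ha ▸ hxn)
  have hnp : ∀ {g : G}, RElem q g → ¬ p ∣ orderOf g := fun {g} hg hd => by
    obtain ⟨k, hk⟩ := hg
    exact hqp ((Nat.prime_dvd_prime_iff_eq hp.out hq.out).mp
      (hp.out.dvd_of_dvd_pow (hd.trans (orderOf_dvd_of_pow_eq_one hk)))).symm
  have hUn : (Cfsg.pCore p G).Normal := Solvable.pCore_normal p
  -- every `q`-element centralises `O_p`
  have hcenU : ∀ g : G, RElem q g → g ∈ Cx x := by
    intro g hg
    obtain ⟨S, -, -, hSc, hgS⟩ := exists_pSub_mem (H := (⊤ : Subgroup G)) hg (mem_top g)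
    obtain ⟨c, hc⟩ := exists_conj_le (r := q) (y := x) (hxn ▸ hqn) hSc
    set x' := c * x * c⁻¹ with hx'
    have hgx' : g ∈ Cx x' := hc hgS
    have hx'U : x' ∈ Cfsg.pCore p G := hUn.conj_mem x hxU c
    have hx'n : cs x' = n := (cs_conj c x).trans hxn
    have hQU : zpowers g ≤ centralizer ((Cfsg.pCore p G) : Set G) := by
      refine Coprime.le_centralizer_of_inf_centralizer_le (P := zpowers x')
        (TwoSizes69.isPGroup_zpowers (hx.conj c)) ?_ (Solvable.isPGroup_pCore p) ?_ ?_ ?_ ?_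
      · rw [Nat.card_zpowers]
        exact (hp.out.coprime_iff_not_dvd.mpr (hnp hg)).symm
      · rw [zpowers_le, mem_centralizer_iff]
        intro u hu
        obtain ⟨i, rfl⟩ := mem_zpowers_iff.mp hu
        exact (show Commute g x' from mem_Cx.mp hgx').zpow_left i
      · rw [normalizer_eq_top]; exact le_top
      · rw [normalizer_eq_top]; exact le_top
      · intro u hu
        obtain ⟨hu1, hu2⟩ := mem_inf.mp hu
        have hux : u ∈ Cx x' := mem_Cx.mpr (mem_centralizer_iff.mp hu2 x' (mem_zpowers x')).symm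
        refine mem_centralizer_iff.mpr fun v hv => ?_
        obtain ⟨i, rfl⟩ := mem_zpowers_iff.mp hv
        exact ((h.symm.commute_local (hx.conj c) hx'n hpm hux
          (RElem.of_mem (Solvable.isPGroup_pCore p) hu1) hgx' (hnp hg)).symm.zpow_left i).eq
    exact mem_Cx.mpr (mem_centralizer_iff.mp (hQU (mem_zpowers g)) x hxU).symm
  obtain ⟨N, hNle, hNmem, hNp, -⟩ := h.symm.exists_compl hx hxn hpm
  have hle : ∀ S : Sylow q G, (S : Subgroup G) ≤ N := fun S g hg =>
    hNmem g (hcenU g (RElem.of_mem S.isPGroup' hg)) (hnp (RElem.of_mem S.isPGroup' hg))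
  -- the complement is nilpotent
  haveI : Group.IsNilpotent N := by
    refine Group.of_quotient_center_nilpotent (IsPGroup.isNilpotent (p := q) ?_)
    intro w
    obtain ⟨g, rfl⟩ := QuotientGroup.mk_surjective w
    obtain ⟨u, v, huv, hu, hv, ⟨k, hk⟩, hvq⟩ := TwoSizes69.exists_parts' (r := q) (g : G)
    refine ⟨k, ?_⟩
    rw [← QuotientGroup.mk_pow, QuotientGroup.eq_one_iff, mem_center_iff]
    intro z
    apply Subtype.ext
    show (z : G) * (g : G) ^ q ^ k = (g : G) ^ q ^ k * (z : G)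
    have hvc : v ∈ center G := by
      by_contra hvc
      obtain ⟨r, w, hr, hwv, hw, hwc, hrd⟩ := exists_primary hvc
      refine hwc (h.central_of_not_dvd hr (fun hrn => ?_) (fun hrm => ?_) hw)
      · rw [ha] at hrn
        have e := (Nat.prime_dvd_prime_iff_eq hr hp.out).mp (hr.dvd_of_dvd_pow hrn)
        exact hNp v (zpowers_le.mpr g.2 hv) (e ▸ hrd)
      · rw [hb] at hrm
        have e := (Nat.prime_dvd_prime_iff_eq hr hq.out).mp (hr.dvd_of_dvd_pow hrm)
        exact hvq (e ▸ hrd)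
    rw [huv, (show Commute u v from mem_center_iff.mp hvc u).mul_pow, hk, one_mul]
    exact mem_center_iff.mp (pow_mem hvc _) z
  have huniq : ∀ S S' : Sylow q G, S = S' := by
    intro S S'
    haveI : ((S.subtype (hle S)) : Subgroup N).Normal :=
      (S.subtype (hle S)).normal_of_normalizerCondition normalizerCondition_of_isNilpotent
    haveI := Sylow.unique_of_normal (S.subtype (hle S)) inferInstance
    have e : S.subtype (hle S) = S'.subtype (hle S') := Subsingleton.elim _ _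
    exact Sylow.subtype_injective e
  haveI : Subsingleton (Sylow q G) := ⟨huniq⟩
  exact Sylow.normal_of_subsingleton Q

/-- Both sides good. -/
theorem Hyp.conclusion_of_good (h : Hyp G n m) (hn : GoodSide G n) (hm : GoodSide G m) :
    Group.IsNilpotent G ∧ IsPrimePow n ∧ IsPrimePow m := by
  obtain ⟨p, x, hp, hpn, hx, hxn⟩ := hn
  obtain ⟨q, y, hq, hqm, hy, hym⟩ := hm
  haveI := Fact.mk hp
  haveI := Fact.mk hq
  obtain ⟨a, ha⟩ := h.primePow_of_good hp hpn hx hxn hqm hy hym
  obtain ⟨b, hb⟩ := h.symm.primePow_of_good hq hqm hy hym hpn hx hxn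
  refine ⟨?_, ⟨p, a, hp.prime, ?_, ha.symm⟩, ⟨q, b, hq.prime, ?_, hb.symm⟩⟩
  · refine ((Group.isNilpotent_of_finite_tfae (G := G)).out 0 3).mpr fun r hr S => ?_
    haveI := hr
    by_cases e1 : r = p
    · subst e1; exact h.symm.sylow_normal hy hym hb ha S
    by_cases e2 : r = q
    · subst e2; exact h.sylow_normal hx hxn ha hb S
    refine ⟨fun w hw g => ?_⟩
    have hwc : w ∈ center G := by
      refine h.central_of_not_dvd hr.out (fun hd => e1 ?_) (fun hd => e2 ?_)
        (RElem.of_mem S.isPGroup' hw)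
      · exact (Nat.prime_dvd_prime_iff_eq hr.out hp).mp (hr.out.dvd_of_dvd_pow (ha ▸ hd))
      · exact (Nat.prime_dvd_prime_iff_eq hr.out hq).mp (hr.out.dvd_of_dvd_pow (hb ▸ hd))
    rw [mem_center_iff.mp hwc g, mul_inv_cancel_right]
    exact hw
  · rcases Nat.eq_zero_or_pos a with e | e
    · rw [e, pow_zero] at ha; have := h.hn; omega
    · exact e
  · rcases Nat.eq_zero_or_pos b with e | e
    · rw [e, pow_zero] at hb; have := h.hm; omega
    · exact e

end CfsgLib.ConjType69
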