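/- Class sizes `1, n, m, n m`: two bad sides are impossible. -/
import Cfsg.Agent.ConjType69.Good
import Cfsg.Agent.Characters.Burnside

set_option autoImplicit false
set_option linter.unusedSectionVars false

namespace CfsgLib.ConjType69

open Subgroup CfsgLib.ClassCoprime69
open CfsgLib.TwoSizes69 (RElem)

variable {G : Type*} [Group G] [Finite G] {n m p q : ℕ}

/-- `n` is a `q`-power, `m` a `p`-power; primary elements of type `n` are `p`-elements and those of
type `m` are `q`-elements. -/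
structure Bad (G : Type*) [Group G] (n m p q : ℕ) : Prop extends Hyp G n m where
  p_prime : p.Prime
  q_prime : q.Prime
  n_pow : ∀ r : ℕ, r.Prime → r ∣ n → r = q
  m_pow : ∀ r : ℕ, r.Prime → r ∣ m → r = p
  qn : q ∣ n
  pm : p ∣ m
  n_prim : ∀ (s : ℕ) (a : G), s.Prime → RElem s a → cs a = n → s = p
  m_prim : ∀ (s : ℕ) (a : G), s.Prime → RElem s a → cs a = m → s = q

theorem Bad.symm (B : Bad G n m p q) : Bad G m n q p :=
  { toHyp := B.toHyp.symm, p_prime := B.q_prime, q_prime := B.p_prime, n_pow := B.m_pow,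
    m_pow := B.n_pow, qn := B.pm, pm := B.qn, n_prim := B.m_prim, m_prim := B.n_prim }

theorem Bad.pn (B : Bad G n m p q) : ¬ p ∣ n := B.toHyp.symm.not_dvd B.p_prime B.pm

theorem Bad.qm (B : Bad G n m p q) : ¬ q ∣ m := B.toHyp.not_dvd B.q_prime B.qn

theorem Bad.ne (B : Bad G n m p q) : p ≠ q := fun e => B.pn (e ▸ B.qn)

theorem Bad.central_other (B : Bad G n m p q) {s : ℕ} (hs : s.Prime) (hp : s ≠ p) (hq : s ≠ q)
    {w : G} (hw : RElem s w) : w ∈ center G :=
  B.toHyp.central_of_not_dvd hs (fun h => hq (B.n_pow s hs h)) (fun h => hp (B.m_pow s hs h)) hw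

theorem Bad.coprime (B : Bad G n m p q) {a b : G} (ha : RElem p a) (hb : RElem q b) :
    (orderOf a).Coprime (orderOf b) :=
  coprime_orderOf B.p_prime B.q_prime B.ne ha hb

theorem Bad.p_cases (B : Bad G n m p q) {u : G} (hu : RElem p u) (huc : u ∉ center G) :
    cs u = n ∨ cs u = n * m := by
  rcases B.toHyp.noncentral_cases huc with e | e | e
  · exact Or.inl e
  · exact absurd (B.m_prim p u B.p_prime hu e) B.ne
  · exact Or.inr e

theorem Bad.solvable (B : Bad G n m p q) : Group.IsSolvable G := by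
  have hdiv : (center G).index ∣ p ^ (center G).index * q ^ (center G).index := by
    rw [← Nat.factorization_le_iff_dvd index_ne_zero_of_finite
      (Nat.mul_ne_zero (pow_ne_zero _ B.p_prime.ne_zero) (pow_ne_zero _ B.q_prime.ne_zero))]
    intro r
    by_cases hr : r.Prime
    swap
    · rw [Nat.factorization_eq_zero_of_not_prime _ hr]; exact Nat.zero_le _
    by_cases hrd : r ∣ (center G).index
    swap
    · rw [Nat.factorization_eq_zero_of_not_dvd hrd]; exact Nat.zero_le _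
    have hrpq : r = p ∨ r = q := by
      by_contra hno
      push Not at hno
      haveI := Fact.mk hr
      obtain ⟨P⟩ := (inferInstance : Nonempty (Sylow r G))
      exact P.not_dvd_index (hrd.trans (index_dvd_of_le fun w hw =>
        B.central_other hr hno.1 hno.2 (RElem.of_mem P.isPGroup' hw)))
    rw [Nat.factorization_mul (pow_ne_zero _ B.p_prime.ne_zero) (pow_ne_zero _ B.q_prime.ne_zero),
      Finsupp.add_apply, Nat.Prime.factorization_pow B.p_prime, Nat.Prime.factorization_pow B.q_prime]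
    have h1 := (Nat.factorization_lt r (index_ne_zero_of_finite (H := center G))).le
    rcases hrpq with rfl | rfl <;> simp only [Finsupp.single_eq_same] <;> omega
  haveI : Group.IsSolvable (G ⧸ center G) :=
    Characters.isSolvable_of_card_eq_primePow_mul p q _ _ B.p_prime B.q_prime
      ((index_eq_card (center G)) ▸ hdiv)
  haveI : Group.IsSolvable (center G) :=
    Group.isSolvable_of_comm fun a b => Subtype.ext (mem_center_iff.mp b.2 a)
  exact Group.isSolvable_of_ker_le_range (center G).subtype (QuotientGroup.mk' (center G)) (by simp)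

theorem Bad.mem_pCore (B : Bad G n m p q) {t : G} (ht : RElem p t)
    (hU : ∀ u ∈ Cfsg.pCore p G, Commute t u) (hV : ∀ v ∈ Cfsg.pCore q G, Commute t v) :
    t ∈ Cfsg.pCore p G := by
  haveI := Fact.mk B.p_prime
  haveI := B.solvable
  have h1 : Cfsg.fittingSubgroup G ≤ Cx t := by
    rw [Solvable.fittingSubgroup_eq_iSup]
    refine iSup_le fun r => ?_
    haveI := Fact.mk r.2
    intro w hw
    by_cases e1 : (r : ℕ) = p
    · exact mem_Cx.mpr (hU w (e1 ▸ hw)).symm.eq
    by_cases e2 : (r : ℕ) = q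
    · exact mem_Cx.mpr (hV w (e2 ▸ hw)).symm.eq
    exact center_le_Cx t (B.central_other r.2 e1 e2 (RElem.of_mem (Solvable.isPGroup_pCore _) hw))
  have htF : t ∈ Cfsg.fittingSubgroup G := Solvable.centralizer_fittingSubgroup_le
    (mem_centralizer_iff.mpr fun w hw => mem_Cx.mp (h1 hw))
  set F := Cfsg.fittingSubgroup G
  haveI : F.Normal := Solvable.fittingSubgroup_normal
  haveI : Group.IsNilpotent F := Solvable.fittingSubgroup_isNilpotent
  obtain ⟨k, hk⟩ := ht
  have hpg : IsPGroup p (zpowers (⟨t, htF⟩ : F)) :=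
    TwoSizes69.isPGroup_zpowers ⟨k, Subtype.ext (by simpa using hk)⟩
  obtain ⟨P, hP⟩ := hpg.exists_le_sylow
  haveI hPn : (P : Subgroup F).Normal := inferInstance
  haveI : (P : Subgroup F).Characteristic := P.characteristic_of_normal hPn
  exact Solvable.le_pCore (P.isPGroup'.map F.subtype) ⟨_, hP (mem_zpowers _), rfl⟩

theorem Bad.n_cent_U (B : Bad G n m p q) {a : G} (ha : cs a = n) :
    Cfsg.pCore p G ≤ Cx a := by
  haveI := Fact.mk B.p_prime
  haveI : (Cfsg.pCore p G).Normal := Solvable.pCore_normal p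
  obtain ⟨S, hSle, hS, hSc⟩ := exists_pSub (p := p) (Cx a)
  have hfull := ord_eq_top (p := p) (H := Cx a) (show ¬ p ∣ cs a by rw [ha]; exact B.pn)
  exact (normal_le_pSub (Solvable.isPGroup_pCore p) le_top hS le_top (hSc.trans hfull)).trans hSle

theorem Bad.commute_UV (B : Bad G n m p q) {u v : G} (hu : u ∈ Cfsg.pCore p G)
    (hv : v ∈ Cfsg.pCore q G) : Commute u v := by
  haveI := Fact.mk B.p_prime
  haveI := Fact.mk B.q_prime
  exact Subgroup.commute_of_normal_of_disjoint _ _ (Solvable.pCore_normal p) (Solvable.pCore_normal q)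
    (IsPGroup.disjoint_of_ne _ _ B.ne _ _ (Solvable.isPGroup_pCore p) (Solvable.isPGroup_pCore q)) u v hu hv

/-- An element commuting with an element of maximal class size in `O_p` centralises `O_p`. -/
theorem Bad.claim1 (B : Bad G n m p q) {u b : G} (hu : u ∈ Cfsg.pCore p G) (hunm : cs u = n * m)
    (hb : RElem q b) (hub : Commute u b) : ∀ w ∈ Cfsg.pCore p G, Commute b w := by
  haveI := Fact.mk B.p_prime
  haveI := Fact.mk B.q_prime
  haveI : (Cfsg.pCore p G).Normal := Solvable.pCore_normal p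
  have hur : RElem p u := RElem.of_mem (Solvable.isPGroup_pCore p) hu
  have hle := B.toHyp.absorb hunm hub (B.coprime hur hb)
  have hQU : zpowers b ≤ centralizer ((Cfsg.pCore p G) : Set G) := by
    refine Coprime.le_centralizer_of_inf_centralizer_le (P := zpowers u)
      (TwoSizes69.isPGroup_zpowers hur) ?_ (Solvable.isPGroup_pCore p) ?_ ?_ ?_ ?_
    · rw [Nat.card_zpowers]
      obtain ⟨k, hk⟩ := hb
      exact ((Nat.coprime_primes B.q_prime B.p_prime).mpr B.ne.symm).pow_left k |>.coprime_dvd_left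
        (orderOf_dvd_of_pow_eq_one hk)
    · rw [zpowers_le, mem_centralizer_iff]
      intro w hw
      obtain ⟨i, rfl⟩ := mem_zpowers_iff.mp hw
      exact hub.symm.zpow_left i
    · rw [normalizer_eq_top]; exact le_top
    · rw [normalizer_eq_top]; exact le_top
    · intro w hw
      obtain ⟨-, hw2⟩ := mem_inf.mp hw
      have h1 : w ∈ Cx b := hle (mem_Cx.mpr (mem_centralizer_iff.mp hw2 u (mem_zpowers u)).symm)
      refine mem_centralizer_iff.mpr fun v hv => ?_
      obtain ⟨i, rfl⟩ := mem_zpowers_iff.mp hv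
      exact ((show Commute w b from mem_Cx.mp h1).symm.zpow_left i).eq
  exact fun w hw => (mem_centralizer_iff.mp (hQU (mem_zpowers b)) w hw).symm

theorem Bad.exists_pair (B : Bad G n m p q) :
    ∃ x y : G, RElem p x ∧ cs x = n ∧ RElem q y ∧ cs y = m ∧ Commute x y := by
  obtain ⟨s, x, hs, hx, hxn⟩ := B.toHyp.exists_primary_n
  obtain ⟨s', y, hs', hy, hym⟩ := B.toHyp.symm.exists_primary_n
  have e : s = p := B.n_prim s x hs hx hxn
  have e' : s' = q := B.m_prim s' y hs' hy hym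
  rw [e] at hx
  rw [e'] at hy
  obtain ⟨g, hgD, hgc⟩ : ∃ g ∈ Cx x ⊓ Cx y, g ∉ center G := by
    by_contra hno
    push Not at hno
    obtain ⟨g, hg⟩ := B.ex_nm
    have h1 : center G = Cx g := eq_of_le_of_cs_le (center_le_Cx g)
      (show (center G).index ≤ cs g by
        rw [hg, ← B.toHyp.inter hxn hym]
        exact Nat.le_of_dvd (Nat.pos_of_ne_zero index_ne_zero_of_finite) (index_dvd_of_le hno))
    exact B.toHyp.not_central (Or.inr (Or.inr hg)) (h1 ▸ mem_Cx_self g)
  obtain ⟨r, w, hr, hwg, hw, hwc, -⟩ := exists_primary hgc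
  obtain ⟨hwx, hwy⟩ := mem_inf.mp (zpowers_le.mpr hgD hwg)
  by_cases hrp : r = p
  · subst hrp
    rcases B.p_cases hw hwc with e | e
    · exact ⟨w, y, hw, e, hy, hym, mem_Cx.mp hwy⟩
    · have h1 := B.toHyp.absorb e (mem_Cx.mp hwy) (B.coprime hw hy)
      exact ⟨x, y, hx, hxn, hy, hym, mem_Cx.mp (h1 (mem_Cx_comm.mp hwx))⟩
  by_cases hrq : r = q
  · subst hrq
    rcases B.symm.p_cases hw hwc with e | e
    · exact ⟨x, w, hx, hxn, hw, e, (show Commute w x from mem_Cx.mp hwx).symm⟩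
    · have h1 := B.toHyp.symm.absorb e (mem_Cx.mp hwx) (B.symm.coprime hw hx)
      exact ⟨x, y, hx, hxn, hy, hym, (show Commute y x from mem_Cx.mp (h1 (mem_Cx_comm.mp hwy))).symm⟩
  exact absurd (B.central_other hr hrp hrq hw) hwc

/-- Centralisers of elements of maximal class size contain noncentral `q`-elements. -/
theorem Bad.exists_q_elem (B : Bad G n m p q) {g : G} (hg : cs g = n * m) :
    ∃ b ∈ Cx g, RElem q b ∧ b ∉ center G := by
  haveI := Fact.mk B.q_prime
  obtain ⟨x, y, hx, hxn, hy, hym, hxy⟩ := B.exists_pair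
  have he := Cx_mul hxy (B.coprime hx hy)
  have hnm : cs (x * y) = n * m := by
    change (Cx (x * y)).index = n * m
    rw [he]; exact B.toHyp.inter hxn hym
  have hymem : y ∈ Cx (x * y) := by
    rw [he]; exact mem_inf.mpr ⟨mem_Cx.mpr hxy.symm.eq, mem_Cx_self y⟩
  by_contra hno
  push Not at hno
  obtain ⟨S0, hS0le, hS0, hS0c⟩ := exists_pSub (p := q) (Cx g)
  obtain ⟨S, hSle, hS, hSc, hyS⟩ := exists_pSub_mem hy hymem
  haveI : (TwoSizes69.Zr q G).Normal := ⟨fun u hu c => by
    rw [mem_center_iff.mp hu.1 c, mul_inv_cancel_right]; exact hu⟩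
  have h0 : S0 ≤ TwoSizes69.Zr q G := fun u hu =>
    ⟨hno u (hS0le hu) (RElem.of_mem hS0 hu), RElem.of_mem hS0 hu⟩
  have h1 : TwoSizes69.Zr q G ≤ S := normal_le_pSub TwoSizes69.Zr_isPGroup
    ((TwoSizes69.Zr_le_center q).trans (center_le_Cx _)) hS hSle hSc
  have h3 : Nat.card S ≤ Nat.card (TwoSizes69.Zr q G) := by
    rw [hSc, ord_eq_of_cs (p := q) (b := g) (by rw [hnm, hg]), ← hS0c]
    exact card_le_of_le h0
  exact B.toHyp.not_central (Or.inr (Or.inl hym)) ((eq_of_le_of_card_ge h1 h3).ge hyS).1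

/-- An element of type `m` commuting with an element of type `n` of `O_p` centralises `O_p`. -/
theorem Bad.centralizes_U (B : Bad G n m p q) {b x : G} (hb : RElem q b) (hbm : cs b = m)
    (hx : x ∈ Cfsg.pCore p G) (hxn : cs x = n) (hbx : Commute b x) :
    ∀ u ∈ Cfsg.pCore p G, Commute b u := by
  haveI := Fact.mk B.p_prime
  haveI := Fact.mk B.q_prime
  haveI hUn : (Cfsg.pCore p G).Normal := Solvable.pCore_normal p
  by_cases himp : ∃ u0 ∈ Cfsg.pCore p G, cs u0 = n * m
  · obtain ⟨u0, hu0, hu0nm⟩ := himp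
    set W := centralizer ((Cfsg.pCore p G) : Set G)
    have hWx : W ≤ Cx x := centralizer_le (Set.singleton_subset_iff.mpr hx)
    obtain ⟨Q0, hQ0le, hQ0, hQ0c⟩ := exists_pSub (p := q) (Cx u0)
    have hQ0W : Q0 ≤ W := fun c hc => mem_centralizer_iff.mpr fun w hw =>
      (B.claim1 hu0 hu0nm (RElem.of_mem hQ0 hc) (show Commute c u0 from mem_Cx.mp (hQ0le hc)).symm w hw).symm.eq
    have hord : ord q (Cx x) ≤ ord q W := by
      refine le_trans (le_of_eq ?_) (hQ0c ▸ card_le_ord hQ0 hQ0W)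
      refine ord_eq_of_cs ?_
      rw [hxn, hu0nm, Nat.factorization_mul (by have := B.hn; omega) (by have := B.hm; omega),
        Finsupp.add_apply, Nat.factorization_eq_zero_of_not_dvd B.qm, add_zero]
    have hbW : b ∈ W := mem_of_ord_le hWx hord hb (mem_Cx.mpr hbx.eq)
    exact fun u hu => (mem_centralizer_iff.mp hbW u hu).symm
  push Not at himp
  have hn' : ∀ u ∈ Cfsg.pCore p G, u ∉ center G → cs u = n := fun u hu huc =>
    (B.p_cases (RElem.of_mem (Solvable.isPGroup_pCore p) hu) huc).resolve_right (himp u hu)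
  have hab : ∀ u ∈ Cfsg.pCore p G, ∀ w ∈ Cfsg.pCore p G, Commute u w := by
    intro u hu w hw
    by_cases huc : u ∈ center G
    · exact ((mem_center_iff.mp huc w).symm : u * w = w * u)
    · exact (show Commute w u from mem_Cx.mp (B.n_cent_U (hn' u hu huc) hw)).symm
  have hfix : ∀ f ∈ Cfsg.pCore p G, Commute b (b * f * b⁻¹ * f⁻¹) → b * f * b⁻¹ * f⁻¹ = 1 := by
    intro f hf hc
    set e := b * f * b⁻¹ * f⁻¹ with he
    have heU : e ∈ Cfsg.pCore p G := mul_mem (hUn.conj_mem f hf b) (inv_mem hf)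
    have hi : ∀ i : ℕ, b ^ i * f * (b ^ i)⁻¹ = e ^ i * f := by
      intro i
      induction i with
      | zero => simp
      | succ i ih =>
        calc b ^ (i + 1) * f * (b ^ (i + 1))⁻¹ = b * (b ^ i * f * (b ^ i)⁻¹) * b⁻¹ := by
              rw [pow_succ']; group
          _ = b * (e ^ i * f) * b⁻¹ := by rw [ih]
          _ = b * e ^ i * b⁻¹ * (b * f * b⁻¹) := by group
          _ = e ^ i * (e * f) := by
            rw [(hc.pow_right i).eq, mul_inv_cancel_right, show e * f = b * f * b⁻¹ by rw [he, inv_mul_cancel_right]]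
          _ = e ^ (i + 1) * f := by rw [pow_succ, ← mul_assoc]
    have h1 := hi (orderOf b)
    rw [pow_orderOf_eq_one, one_mul, inv_one, mul_one, eq_comm, mul_eq_right] at h1
    exact orderOf_eq_one_iff.mp (Nat.eq_one_of_dvd_coprimes
      (B.coprime (RElem.of_mem (Solvable.isPGroup_pCore p) heU) hb) dvd_rfl (orderOf_dvd_of_pow_eq_one h1))
  intro w hw
  set c := b * w * b⁻¹ * w⁻¹ with hc
  have hcU : c ∈ Cfsg.pCore p G := mul_mem (hUn.conj_mem w hw b) (inv_mem hw)
  have hbv : Commute b (x * c) := by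
    by_cases hvc : x * c ∈ center G
    · exact mem_center_iff.mp hvc b
    have hvn := hn' _ (mul_mem hx hcU) hvc
    have hle : Cx (x * c) ⊓ Cx b ≤ Cx x ⊓ Cx b := by
      intro k hk
      obtain ⟨hk1, hk2⟩ := mem_inf.mp hk
      refine mem_inf.mpr ⟨?_, hk2⟩
      have hkb : Commute k b := mem_Cx.mp hk2
      set w1 := k * w * k⁻¹ with hw1
      have hw1U : w1 ∈ Cfsg.pCore p G := hUn.conj_mem w hw k
      have e1 : k * x * k⁻¹ * (k * c * k⁻¹) = x * c := by
        rw [show k * x * k⁻¹ * (k * c * k⁻¹) = k * (x * c) * k⁻¹ by group, mem_Cx_iff_conj.mp hk1]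
      have e2 : k * c * k⁻¹ = b * w1 * b⁻¹ * w1⁻¹ := by
        rw [hc, hw1]
        calc k * (b * w * b⁻¹ * w⁻¹) * k⁻¹ = k * b * w * (b⁻¹ * k⁻¹) * (k * w⁻¹ * k⁻¹) := by group
          _ = b * k * w * (k⁻¹ * b⁻¹) * (k * w⁻¹ * k⁻¹) := by rw [hkb.eq, hkb.inv_inv.eq]
          _ = b * (k * w * k⁻¹) * b⁻¹ * (k * w * k⁻¹)⁻¹ := by group
      set f := w * w1⁻¹ with hf
      have e3 : c * (k * c * k⁻¹)⁻¹ = b * f * b⁻¹ * f⁻¹ := by
        rw [e2, hc, hf]
        have hA := hUn.conj_mem w hw b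
        have hB := inv_mem (hUn.conj_mem w1 hw1U b)
        calc b * w * b⁻¹ * w⁻¹ * (b * w1 * b⁻¹ * w1⁻¹)⁻¹
            = b * w * b⁻¹ * (w⁻¹ * (w1 * (b * w1 * b⁻¹)⁻¹)) := by group
          _ = b * w * b⁻¹ * (w⁻¹ * ((b * w1 * b⁻¹)⁻¹ * w1)) := by rw [(hab _ hw1U _ hB).eq]
          _ = b * w * b⁻¹ * ((b * w1 * b⁻¹)⁻¹ * w⁻¹ * w1) := by
            rw [← mul_assoc w⁻¹, (hab _ (inv_mem hw) _ hB).eq]
          _ = b * w * b⁻¹ * ((b * w1 * b⁻¹)⁻¹ * (w1 * w⁻¹)) := by
            rw [mul_assoc _ w⁻¹ w1, (hab _ (inv_mem hw) _ hw1U).eq]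
          _ = b * (w * w1⁻¹) * b⁻¹ * (w * w1⁻¹)⁻¹ := by group
      have e4 : x⁻¹ * (k * x * k⁻¹) = b * f * b⁻¹ * f⁻¹ := by
        rw [← e3, eq_mul_inv_iff_mul_eq, mul_assoc, e1, inv_mul_cancel_left]
      have hcx : Commute b (k * x * k⁻¹) := (hkb.symm.mul_right hbx).mul_right hkb.symm.inv_right
      have h5 := hfix f (mul_mem hw (inv_mem hw1U)) (e4 ▸ hbx.inv_right.mul_right hcx)
      rw [h5, inv_mul_eq_one] at e4
      exact mem_Cx_iff_conj.mpr e4.symm
    have heq : Cx (x * c) ⊓ Cx b = Cx x ⊓ Cx b := by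
      refine le_antisymm hle (relIndex_eq_one.mp ?_)
      have h1 := relIndex_mul_index hle
      rw [B.toHyp.inter hvn hbm, B.toHyp.inter hxn hbm] at h1
      exact Nat.eq_of_mul_eq_mul_right (Nat.mul_pos (by have := B.hn; omega) (by have := B.hm; omega))
        (h1.trans (one_mul _).symm)
    have hb' : b ∈ Cx x ⊓ Cx b := mem_inf.mpr ⟨mem_Cx.mpr hbx.eq, mem_Cx_self b⟩
    exact mem_Cx.mp (mem_inf.mp (heq ▸ hb')).1
  have hbc : Commute b c := by
    have := hbx.inv_right.mul_right hbv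
    rwa [inv_mul_cancel_left] at this
  have h6 := hfix w hw hbc
  rw [mul_inv_eq_one, mul_inv_eq_iff_eq_mul] at h6
  exact h6

/-- `O_q` is not central. -/
theorem Bad.not_central_V (B : Bad G n m p q) : ¬ Cfsg.pCore q G ≤ center G := by
  intro hV
  haveI := Fact.mk B.p_prime
  haveI := Fact.mk B.q_prime
  have dag : ∀ b : G, RElem q b → (∀ u ∈ Cfsg.pCore p G, Commute b u) → b ∈ center G := fun b hb hbU =>
    hV (B.symm.mem_pCore hb (fun v hv => mem_center_iff.mp (hV hv) b) hbU)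
  obtain ⟨x, y, hx, hxn, hy, hym, hxy⟩ := B.exists_pair
  have hxU : x ∈ Cfsg.pCore p G := B.mem_pCore hx
    (fun u hu => (show Commute u x from mem_Cx.mp (B.n_cent_U hxn hu)).symm)
    (fun v hv => mem_center_iff.mp (hV hv) x)
  exact B.toHyp.not_central (Or.inr (Or.inl hym)) (dag y hy (B.centralizes_U hy hym hxU hxn hxy.symm))

/-- `O_p` contains an element of type `n`. -/
theorem Bad.exists_n_in_U (B : Bad G n m p q) : ∃ x ∈ Cfsg.pCore p G, RElem p x ∧ cs x = n := by
  haveI := Fact.mk B.p_prime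
  haveI := Fact.mk B.q_prime
  obtain ⟨u, hu, huc⟩ := SetLike.not_le_iff_exists.mp B.symm.not_central_V
  have hur : RElem p u := RElem.of_mem (Solvable.isPGroup_pCore p) hu
  rcases B.p_cases hur huc with e | e
  · exact ⟨u, hu, hur, e⟩
  obtain ⟨x, -, hx, hxn, -, -, -⟩ := B.exists_pair
  refine ⟨x, B.mem_pCore hx (fun w hw => (show Commute w x from mem_Cx.mp (B.n_cent_U hxn hw)).symm)
    (fun v hv => ?_), hx, hxn⟩
  have h1 := B.toHyp.absorb e (B.commute_UV hu hv)
    (B.coprime hur (RElem.of_mem (Solvable.isPGroup_pCore q) hv))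
  have hxu : x ∈ Cx u := mem_Cx.mpr (show Commute u x from mem_Cx.mp (B.n_cent_U hxn hu)).symm.eq
  exact mem_Cx.mp (h1 hxu)

/-- `p`-elements outside `O_p` act without noncentral fixed points on `O_q`. -/
theorem Bad.fixed_central (B : Bad G n m p q) {t v : G} (ht : RElem p t)
    (htU : t ∉ Cfsg.pCore p G) (hv : v ∈ Cfsg.pCore q G) (htv : Commute t v) : v ∈ center G := by
  haveI := Fact.mk B.p_prime
  haveI := Fact.mk B.q_prime
  haveI hUn : (Cfsg.pCore p G).Normal := Solvable.pCore_normal p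
  haveI hVn : (Cfsg.pCore q G).Normal := Solvable.pCore_normal q
  by_contra hvc
  have hvr : RElem q v := RElem.of_mem (Solvable.isPGroup_pCore q) hv
  refine htU ?_
  rcases B.symm.p_cases hvr hvc with ev | ev
  swap
  · refine B.mem_pCore ht (fun u hu => ?_) (B.symm.claim1 hv ev ht htv.symm)
    have h1 := B.toHyp.symm.absorb ev (B.commute_UV hu hv).symm
      (B.symm.coprime hvr (RElem.of_mem (Solvable.isPGroup_pCore p) hu))
    exact mem_Cx.mp (h1 (mem_Cx.mpr htv.eq))
  by_cases htc : t ∈ center G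
  · exact B.mem_pCore ht (fun u _ => (mem_center_iff.mp htc u).symm) (fun w _ => (mem_center_iff.mp htc w).symm)
  rcases B.p_cases ht htc with et | et
  · exact B.mem_pCore ht (fun u hu => (show Commute u t from mem_Cx.mp (B.n_cent_U et hu)).symm)
      (B.symm.centralizes_U ht et hv ev htv)
  obtain ⟨x, hxU, hxr, hxn⟩ := B.exists_n_in_U
  -- `U` centralises `t`
  have hle : Cx t ≤ Cx v := B.toHyp.absorb et htv (B.coprime ht hvr)
  obtain ⟨Pt, hPle, hPt, hPc⟩ := exists_pSub (p := p) (Cx t)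
  have hUv : Cfsg.pCore p G ≤ Cx v := fun u hu => mem_Cx.mpr (B.commute_UV hu hv).eq
  have hPcv : Nat.card Pt = ord p (Cx v) := by
    rw [hPc]
    refine ord_eq_of_cs ?_
    rw [et, ev, Nat.factorization_mul (by have := B.hn; omega) (by have := B.hm; omega),
      Finsupp.add_apply, Nat.factorization_eq_zero_of_not_dvd B.pn, zero_add]
  have hUt : Cfsg.pCore p G ≤ Cx t :=
    (normal_le_pSub (Solvable.isPGroup_pCore p) hUv hPt (hPle.trans hle) hPcv).trans hPle
  have htU' : ∀ u ∈ Cfsg.pCore p G, Commute t u := fun u hu =>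
    (show Commute u t from mem_Cx.mp (hUt hu)).symm
  refine B.mem_pCore ht htU' ?_
  -- `q`-elements centralising `t` centralise `x`
  obtain ⟨Qt, hQle, hQt, hQc⟩ := exists_pSub (p := q) (Cx t)
  have hQx : Qt ≤ Cx x := by
    intro b hb
    have hbt : Commute t b := (show Commute b t from mem_Cx.mp (hQle hb)).symm
    have h1 := B.toHyp.absorb et hbt (B.coprime ht (RElem.of_mem hQt hb))
    exact mem_Cx.mpr (show Commute x b from mem_Cx.mp (h1 (hUt hxU))).symm.eq
  have hQcx : Nat.card Qt = ord q (Cx x) := by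
    rw [hQc]
    refine ord_eq_of_cs ?_
    rw [et, hxn, Nat.factorization_mul (by have := B.hn; omega) (by have := B.hm; omega),
      Finsupp.add_apply, Nat.factorization_eq_zero_of_not_dvd B.qm, add_zero]
  have hVx : Cfsg.pCore q G ≤ Cx x := fun w hw => mem_Cx.mpr (B.commute_UV hxU hw).symm.eq
  have hVt := (normal_le_pSub (Solvable.isPGroup_pCore q) hVx hQt hQx hQcx).trans hQle
  exact fun w hw => (show Commute w t from mem_Cx.mp (hVt hw)).symm

theorem Bad.lt (B : Bad G n m p q) : m < n := by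
  haveI := Fact.mk B.p_prime
  haveI := Fact.mk B.q_prime
  haveI hVn : (Cfsg.pCore q G).Normal := Solvable.pCore_normal q
  obtain ⟨y, hyV, hyr, hym⟩ := B.symm.exists_n_in_U
  set V := Cfsg.pCore q G
  set Z := V ⊓ center G with hZ
  -- a `p`-element moving `y`
  obtain ⟨t, ht, hty⟩ : ∃ t : G, RElem p t ∧ ¬ Commute t y := by
    by_contra hno
    push Not at hno
    obtain ⟨P⟩ := (inferInstance : Nonempty (Sylow p G))
    exact P.not_dvd_index ((show p ∣ (Cx y).index by change p ∣ cs y; rw [hym]; exact B.pm).trans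
      (index_dvd_of_le fun u hu => mem_Cx.mpr (hno u (RElem.of_mem P.isPGroup' hu)).eq))
  have htU : t ∉ Cfsg.pCore p G := fun h => hty (B.commute_UV h hyV)
  obtain ⟨Qt, hQle, hQt, hQc⟩ := exists_pSub (p := q) (Cx t)
  have hinf : V ⊓ Qt ≤ Z := fun w hw => mem_inf.mpr ⟨(mem_inf.mp hw).1,
    B.fixed_central ht htU (mem_inf.mp hw).1 (show Commute w t from mem_Cx.mp (hQle (mem_inf.mp hw).2)).symm⟩
  have hsize : Nat.card V ≤ n * Nat.card Z := by
    have hVq : IsPGroup q V := Solvable.isPGroup_pCore q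
    have h1 : Nat.card Qt * Nat.card V = Nat.card ↥(Qt ⊔ V) * Nat.card ↥(V ⊓ Qt) := by
      have a1 : Nat.card ↥(Qt ⊔ V) = Nat.card V * V.relIndex Qt := by
        rw [← relIndex_sup_right (H := Qt) (K := V),
          ← Nat.card_congr (subgroupOfEquivOfLe (le_sup_right : V ≤ Qt ⊔ V)).toEquiv]
        exact ((V.subgroupOf (Qt ⊔ V)).card_mul_index).symm
      have a2 : Nat.card Qt = Nat.card ↥(V ⊓ Qt) * V.relIndex Qt := by
        rw [← inf_relIndex_right, ← Nat.card_congr (subgroupOfEquivOfLe (inf_le_right : V ⊓ Qt ≤ Qt)).toEquiv]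
        exact (((V ⊓ Qt).subgroupOf Qt).card_mul_index).symm
      rw [a1, a2]; ring
    have h2 : Nat.card ↥(Qt ⊔ V) ≤ ord q (⊤ : Subgroup G) :=
      card_le_ord (hQt.to_sup_of_normal_right hVq) le_top
    have h3 : ord q (⊤ : Subgroup G) ≤ Nat.card Qt * n := by
      have a1 := ord_mul (p := q) (Cx t)
      change ord q (Cx t) * q ^ (cs t).factorization q = _ at a1
      rw [← a1, ← hQc]
      refine Nat.mul_le_mul_left _ (Nat.le_of_dvd (by have := B.hn; omega) ?_)
      exact (pow_dvd_pow q (B.toHyp.factorization_le B.qm t)).trans (Nat.ordProj_dvd n q)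
    refine Nat.le_of_mul_le_mul_left ?_ (Nat.card_pos : 0 < Nat.card Qt)
    rw [h1, ← mul_assoc]
    exact (Nat.mul_le_mul_left _ (card_le_of_le hinf)).trans
      (Nat.mul_le_mul_right _ (h2.trans h3))
  -- translations by `Z` of the class of `y`
  let S : Subgroup G :=
    { carrier := {z | z ∈ Z ∧ y * z ∈ cls y}
      one_mem' := ⟨one_mem _, by rw [mul_one]; exact self_mem_cls y⟩
      mul_mem' := by
        rintro z1 z2 ⟨hz1, g1, e1⟩ ⟨hz2, g2, e2⟩
        refine ⟨mul_mem hz1 hz2, g2 * g1, ?_⟩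
        have e1' : g1 * y * g1⁻¹ = y * z1 := e1
        have e2' : g2 * y * g2⁻¹ = y * z2 := e2
        have hc1 : z1 ∈ center G := (mem_inf.mp hz1).2
        show g2 * g1 * y * (g2 * g1)⁻¹ = y * (z1 * z2)
        calc g2 * g1 * y * (g2 * g1)⁻¹ = g2 * (g1 * y * g1⁻¹) * g2⁻¹ := by group
          _ = g2 * y * (z1 * g2⁻¹) := by rw [e1']; group
          _ = g2 * y * (g2⁻¹ * z1) := by rw [← mem_center_iff.mp hc1 g2⁻¹]
          _ = g2 * y * g2⁻¹ * z1 := by group
          _ = y * z2 * z1 := by rw [e2']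
          _ = y * (z1 * z2) := by rw [mul_assoc, mem_center_iff.mp hc1 z2]
      inv_mem' := by
        rintro z ⟨hz, g, e⟩
        refine ⟨inv_mem hz, g⁻¹, ?_⟩
        have e' : g * y * g⁻¹ = y * z := e
        have hc : z ∈ center G := (mem_inf.mp hz).2
        show g⁻¹ * y * g⁻¹⁻¹ = y * z⁻¹
        rw [inv_inv, eq_mul_inv_iff_mul_eq, mul_assoc, mem_center_iff.mp hc g, ← mul_assoc, mul_assoc _ y z, ← e']
        group }
  have hSdvd : Nat.card S ∣ cs y := by
    refine card_dvd_cs S ?_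
    rintro z ⟨hz, g, e⟩ _ ⟨h, rfl⟩
    have hc : z ∈ center G := (mem_inf.mp hz).2
    refine ⟨h * g, ?_⟩
    show h * g * y * (h * g)⁻¹ = z * (h * y * h⁻¹)
    have e' : g * y * g⁻¹ = y * z := e
    calc h * g * y * (h * g)⁻¹ = h * (g * y * g⁻¹) * h⁻¹ := by group
      _ = h * y * (z * h⁻¹) := by rw [e']; group
      _ = h * y * (h⁻¹ * z) := by rw [← mem_center_iff.mp hc h⁻¹]
      _ = z * (h * y * h⁻¹) := by rw [← mul_assoc, mem_center_iff.mp hc (h * y * h⁻¹)]
  have hS1 : S = ⊥ := by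
    refine eq_bot_of_card_eq _ ?_
    have hSq : IsPGroup q S := (Solvable.isPGroup_pCore q).to_le fun z hz => (mem_inf.mp hz.1).1
    obtain ⟨k, hk⟩ := IsPGroup.iff_card.mp hSq
    rw [hk]
    rw [hk, hym] at hSdvd
    exact Nat.eq_one_of_dvd_coprimes ((B.q_prime.coprime_iff_not_dvd.mpr B.qm).pow_left k) dvd_rfl hSdvd
  have hlt : m * Nat.card Z < Nat.card V := by
    rw [← hym, ← card_cls y, ← Nat.card_prod]
    have hmemV : ∀ a ∈ cls y, a ∈ V := by
      rintro _ ⟨g, rfl⟩; exact hVn.conj_mem y hyV g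
    haveI := Fintype.ofFinite (cls y × Z)
    haveI := Fintype.ofFinite V
    rw [Nat.card_eq_fintype_card, Nat.card_eq_fintype_card]
    refine Fintype.card_lt_of_injective_of_notMem
      (fun w : cls y × Z => (⟨(w.1 : G) * (w.2 : G), mul_mem (hmemV _ w.1.2) (mem_inf.mp w.2.2).1⟩ : V))
      ?_ (b := 1) ?_
    · rintro ⟨⟨_, g1, rfl⟩, ⟨z1, hz1⟩⟩ ⟨⟨_, g2, rfl⟩, ⟨z2, hz2⟩⟩ e
      have e' : g1 * y * g1⁻¹ * z1 = g2 * y * g2⁻¹ * z2 := congrArg Subtype.val e
      have hc : z1 * z2⁻¹ ∈ center G := mul_mem (mem_inf.mp hz1).2 (inv_mem (mem_inf.mp hz2).2)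
      have h1 : z1 * z2⁻¹ ∈ S := by
        refine ⟨mul_mem hz1 (inv_mem hz2), g1⁻¹ * g2, ?_⟩
        show g1⁻¹ * g2 * y * (g1⁻¹ * g2)⁻¹ = y * (z1 * z2⁻¹)
        calc g1⁻¹ * g2 * y * (g1⁻¹ * g2)⁻¹ = g1⁻¹ * (g2 * y * g2⁻¹ * z2 * z2⁻¹) * g1 := by group
          _ = g1⁻¹ * (g1 * y * g1⁻¹ * z1 * z2⁻¹) * g1 := by rw [e']
          _ = y * g1⁻¹ * ((z1 * z2⁻¹) * g1) := by group
          _ = y * g1⁻¹ * (g1 * (z1 * z2⁻¹)) := by rw [← mem_center_iff.mp hc g1]
          _ = y * (z1 * z2⁻¹) := by group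
      rw [hS1, mem_bot, mul_inv_eq_one] at h1
      subst h1
      exact Prod.ext (Subtype.ext (mul_right_cancel e')) rfl
    · rintro ⟨⟨⟨_, g, rfl⟩, ⟨z, hz⟩⟩, e⟩
      have e' : g * y * g⁻¹ * z = 1 := congrArg Subtype.val e
      refine B.toHyp.not_central (Or.inr (Or.inl ?_)) (show g * y * g⁻¹ ∈ center G from
        (eq_inv_of_mul_eq_one_left e') ▸ inv_mem (mem_inf.mp hz).2)
      exact (cs_conj g y).trans hym
  exact lt_of_mul_lt_mul_right (lt_of_lt_of_le hlt hsize) (Nat.zero_le _)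

theorem Bad.false (B : Bad G n m p q) : False := absurd B.lt (lt_asymm B.symm.lt)

/-- The class sizes `1, n, m, n m` force nilpotence. -/
theorem Hyp.conclusion (h : Hyp G n m) : Group.IsNilpotent G ∧ IsPrimePow n ∧ IsPrimePow m := by
  have key : ∀ {n m : ℕ}, Hyp G n m → ¬ GoodSide G n → False := by
    intro n m h hbad
    have hbad' : ¬ GoodSide G m := by
      rintro ⟨q, y, hq, hqm, hy, hym⟩
      obtain ⟨r, hr, hrn⟩ := Nat.exists_prime_and_dvd (n := n) (by have := h.hn; omega)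
      haveI := Fact.mk hr
      have e : q = r := h.prime_unique hbad hrn hq hy hym
      exact h.not_dvd hr hrn (e ▸ hqm)
    obtain ⟨p, x, hp, hx, hxn⟩ := h.exists_primary_n
    obtain ⟨q, y, hq, hy, hym⟩ := h.symm.exists_primary_n
    have hnq : ∀ r : ℕ, r.Prime → r ∣ n → r = q := fun r hr hd =>
      (haveI := Fact.mk hr; h.prime_unique hbad hd hq hy hym).symm
    have hmp : ∀ r : ℕ, r.Prime → r ∣ m → r = p := fun r hr hd =>
      (haveI := Fact.mk hr; h.symm.prime_unique hbad' hd hp hx hxn).symm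
    obtain ⟨r, hr, hrn⟩ := Nat.exists_prime_and_dvd (n := n) (by have := h.hn; omega)
    obtain ⟨r', hr', hrm⟩ := Nat.exists_prime_and_dvd (n := m) (by have := h.hm; omega)
    have hqn : q ∣ n := hnq r hr hrn ▸ hrn
    have hpm : p ∣ m := hmp r' hr' hrm ▸ hrm
    haveI := Fact.mk hp
    haveI := Fact.mk hq
    exact Bad.false (p := p) (q := q) ⟨h, hp, hq, hnq, hmp, hqn, hpm,
      fun s a hs ha e => h.symm.prime_unique hbad' hpm hs ha e,
      fun s a hs ha e => h.prime_unique hbad hqn hs ha e⟩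
  refine h.conclusion_of_good ?_ ?_
  · by_contra hb; exact key h hb
  · by_contra hb; exact key h.symm hb

end CfsgLib.ConjType69
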